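import Cfsg.Agent.Lib.Glauberman.Correspondence
import Cfsg.Agent.Lib.Char.BrauerPerm
import Mathlib.GroupTheory.PGroup

/-!
# A `p`-group acting coprimely: characters, classes and equivariance
-/

set_option autoImplicit false
set_option linter.unusedSectionVars false
set_option linter.style.haveILetI false

namespace Cfsg.Agent.Lib.Glauberman

open Cfsg Cfsg.Agent.Lib.Char
open scoped ComplexConjugate Classical commutatorElement

universe u v

/-- A class is mapped to itself. -/
def InvClass {K : Type u} [Group K] {P : Type v} [Group P] (a : P →* MulAut K) (c : ConjClasses K) :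
    Prop :=
  ∀ x k, ConjClasses.mk k = c → ConjClasses.mk (a x k) = c

section

variable {K : Type u} [Group K] [Finite K] {P : Type v} [Group P] [Finite P]

/-- The fixed subgroup. -/
def fixed (a : P →* MulAut K) : Subgroup K where
  carrier := {k | ∀ x, a x k = k}
  one_mem' x := map_one _
  mul_mem' {k l} hk hl x := by rw [map_mul, hk x, hl x]
  inv_mem' {k} hk x := by rw [map_inv, hk x]

variable {a : P →* MulAut K} {p : ℕ} [Fact p.Prime] (hP : IsPGroup p P) (hK : ¬ p ∣ Nat.card K)

theorem mem_fixed {k : K} : k ∈ fixed a ↔ ∀ x, a x k = k := Iff.rfl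

include hP hK

theorem setup_fixed : Setup a p ⊥ (fixed a) where
  pgroupP := hP
  normal := inferInstance
  pgroupQ := IsPGroup.of_bot
  index := by rwa [Subgroup.index_bot]
  mem k := by simp only [mem_fixed, Subgroup.mem_bot, mul_inv_eq_one]

theorem inv_of_fixed (ξ : IrrCharacter (fixed a)) :
    Inv (setup_fixed hP hK).autC (ξ : fixed a → ℂ) :=
  fun x k => congrArg (ξ : fixed a → ℂ) (Subtype.ext (k.2 x))

/-- The correspondence of invariant characters with the characters of the fixed subgroup. -/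
theorem exists_equiv_fixed :
    ∃ f : {χ : IrrCharacter K // Inv a (χ : K → ℂ)} ≃ IrrCharacter (fixed a),
      ∀ χ ξ, (mult χ.1 ξ : ZMod p) ≠ 0 ↔ ξ = f χ := by
  obtain ⟨f, hf, h⟩ := (setup_fixed hP hK).exists_bijective
  refine ⟨(Equiv.ofBijective f hf).trans
    (Equiv.subtypeUnivEquiv fun ξ => inv_of_fixed hP hK ξ), fun χ ξ => ⟨fun hne => ?_, fun he => ?_⟩⟩
  · by_contra hne'
    refine hne ((h χ).2.1 ⟨ξ, inv_of_fixed hP hK ξ⟩ fun e => hne' ?_)
    exact congrArg Subtype.val e
  · subst he
    intro h0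
    change (mult χ.1 (f χ).1 : ZMod p) = 0 at h0
    rcases (h χ).1 with e | e <;> rw [h0] at e
    · exact zero_ne_one e
    · exact neg_ne_zero.mpr (one_ne_zero (α := ZMod p)) e.symm

theorem exists_fixed_of_invClass {c : ConjClasses K} (hc : InvClass a c) :
    ∃ k : K, ConjClasses.mk k = c ∧ ∀ x, a x k = k := by
  obtain ⟨k₀, rfl⟩ := ConjClasses.mk_surjective c
  let X := {k : K // ConjClasses.mk k = ConjClasses.mk k₀}
  letI : MulAction P X :=
    { smul := fun x k => ⟨a x k, hc x k k.2⟩
      one_smul := fun k => Subtype.ext (by show a 1 k = k; rw [map_one, MulAut.one_apply])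
      mul_smul := fun x y k => Subtype.ext (by
        show a (x * y) k = a x (a y k); rw [map_mul, MulAut.mul_apply]) }
  have hdvd : Nat.card X ∣ Nat.card K := by
    have e : Nat.card X = Nat.card (MulAction.orbit (ConjAct K) k₀) :=
      Nat.card_congr (Equiv.subtypeEquivRight fun k => by
        rw [ConjClasses.mk_eq_mk_iff_isConj, ← ConjAct.mem_orbit_conjAct])
    rw [e, Nat.card_coe_set_eq, ← MulAction.index_stabilizer]
    exact Subgroup.index_dvd_card _
  obtain ⟨k, hk⟩ := hP.nonempty_fixed_point_of_prime_not_dvd_card X fun h => hK (h.trans hdvd)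
  exact ⟨k.1, k.2, fun x => congrArg Subtype.val (hk x)⟩

theorem isConj_fixed {c d : fixed a} (h : IsConj (c : K) (d : K)) : IsConj c d := by
  obtain ⟨k₀, hk₀⟩ := isConj_iff.mp h
  let X := {k : K // k * c * k⁻¹ = d}
  letI : MulAction P X :=
    { smul := fun x k => ⟨a x k, by
        have h1 := congrArg (a x) k.2
        rwa [map_mul, map_mul, map_inv, c.2 x, d.2 x] at h1⟩
      one_smul := fun k => Subtype.ext (by show a 1 k = k; rw [map_one, MulAut.one_apply])
      mul_smul := fun x y k => Subtype.ext (by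
        show a (x * y) k = a x (a y k); rw [map_mul, MulAut.mul_apply]) }
  have e : Nat.card X = Nat.card (Subgroup.centralizer {(c : K)}) := by
    refine Nat.card_congr ((Equiv.mulLeft k₀⁻¹).subtypeEquiv fun k => ?_)
    rw [Subgroup.mem_centralizer_singleton_iff]
    show k * c * k⁻¹ = d ↔ k₀⁻¹ * k * c = c * (k₀⁻¹ * k)
    rw [← hk₀]
    constructor
    · intro hk
      calc k₀⁻¹ * k * c = k₀⁻¹ * (k * c * k⁻¹) * k := by group
        _ = c * (k₀⁻¹ * k) := by rw [hk]; group
    · intro hk
      calc k * c * k⁻¹ = k₀ * (k₀⁻¹ * k * c) * k⁻¹ := by group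
        _ = k₀ * c * k₀⁻¹ := by rw [hk]; group
  obtain ⟨k, hk⟩ := hP.nonempty_fixed_point_of_prime_not_dvd_card X
    fun h => hK (h.trans (e ▸ Subgroup.card_subgroup_dvd_card _))
  exact isConj_iff.mpr ⟨⟨k.1, fun x => congrArg Subtype.val (hk x)⟩, Subtype.ext k.2⟩

/-- The classes of the fixed subgroup are the invariant classes. -/
theorem bijective_classMap :
    ∃ g : ConjClasses (fixed a) ≃ {c : ConjClasses K // InvClass a c},
      ∀ c : fixed a, (g (ConjClasses.mk c)).1 = ConjClasses.mk (c : K) := by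
  have hinv : ∀ c : fixed a, InvClass a (ConjClasses.mk (c : K)) := by
    intro c x k hk
    obtain ⟨d, rfl⟩ := isConj_iff.mp (ConjClasses.mk_eq_mk_iff_isConj.mp hk.symm)
    rw [map_mul, map_mul, map_inv, c.2 x, ConjClasses.mk_eq_mk_iff_isConj]
    exact (isConj_iff.mpr ⟨a x d, rfl⟩).symm
  let g0 : ConjClasses (fixed a) → {c : ConjClasses K // InvClass a c} := fun c =>
    ⟨ConjClasses.map (fixed a).subtype c, by
      obtain ⟨c, rfl⟩ := ConjClasses.mk_surjective c
      exact hinv c⟩
  refine ⟨Equiv.ofBijective g0 ⟨fun c d h => ?_, fun c => ?_⟩, fun c => rfl⟩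
  · obtain ⟨c, rfl⟩ := ConjClasses.mk_surjective c
    obtain ⟨d, rfl⟩ := ConjClasses.mk_surjective d
    exact ConjClasses.mk_eq_mk_iff_isConj.mpr (isConj_fixed hP hK
      (ConjClasses.mk_eq_mk_iff_isConj.mp (congrArg Subtype.val h)))
  · obtain ⟨k, hk, hfix⟩ := exists_fixed_of_invClass hP hK c.2
    exact ⟨ConjClasses.mk ⟨k, hfix⟩, Subtype.ext hk⟩

theorem card_inv_irr_eq :
    Nat.card {χ : IrrCharacter K // Inv a (χ : K → ℂ)} =
      Nat.card {c : ConjClasses K // InvClass a c} := by
  obtain ⟨f, -⟩ := exists_equiv_fixed hP hK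
  obtain ⟨g, -⟩ := bijective_classMap hP hK
  rw [Nat.card_congr f, card_irr_eq_card_conjClasses, Nat.card_congr g]

/-- Real invariant characters and real invariant classes. -/
theorem card_real_inv_irr_eq :
    Nat.card {χ : IrrCharacter K // (∀ k : K, ((χ : K → ℂ) k).im = 0) ∧ Inv a (χ : K → ℂ)} =
      Nat.card {c : ConjClasses K //
        (∀ k : K, ConjClasses.mk k = c → IsConj k k⁻¹) ∧ InvClass a c} := by
  obtain ⟨f, hf⟩ := exists_equiv_fixed hP hK
  obtain ⟨g, hg⟩ := bijective_classMap hP hK
  have := Fintype.ofFinite (fixed a)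
  have := Fintype.ofFinite K
  have hirrC : ∀ ξ : IrrCharacter (fixed a), IsIrrCharacter (fixed a) fun k => conj ((ξ : fixed a → ℂ) k) :=
    fun ξ => isIrrCharacter_conj ξ.2
  have hreal : ∀ χ : {χ : IrrCharacter K // Inv a (χ : K → ℂ)},
      (∀ k : K, ((χ.1 : K → ℂ) k).im = 0) ↔ ∀ c : fixed a, (((f χ) : fixed a → ℂ) c).im = 0 := by
    intro χ
    let χ' : {χ : IrrCharacter K // Inv a (χ : K → ℂ)} :=
      ⟨⟨fun k => conj ((χ.1 : K → ℂ) k), isIrrCharacter_conj χ.1.2⟩,
        fun x k => congrArg conj (χ.2 x k)⟩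
    have hmult : mult χ'.1 ⟨_, hirrC (f χ)⟩ = mult χ.1 (f χ) := by
      apply Nat.cast_injective (R := ℂ)
      rw [← Complex.conj_natCast (mult χ.1 (f χ)), ← mult_spec, ← mult_spec]
      simp [classInner, map_sum, χ']
    have hfc : ((f χ') : fixed a → ℂ) = fun k => conj (((f χ) : fixed a → ℂ) k) := by
      have h1 : (mult χ'.1 ⟨_, hirrC (f χ)⟩ : ZMod p) ≠ 0 := by
        rw [hmult]; exact (hf χ _).2 rfl
      rw [← (hf χ' _).1 h1]
    constructor
    · intro hr c
      have hχ : χ' = χ := Subtype.ext (Subtype.ext (funext fun k =>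
        Complex.conj_eq_iff_im.2 (hr k)))
      rw [hχ] at hfc
      exact Complex.conj_eq_iff_im.1 (congrFun hfc c).symm
    · intro hr
      have hχ : χ' = χ := f.injective (Subtype.ext (by
        rw [hfc]; exact funext fun c => Complex.conj_eq_iff_im.2 (hr c)))
      intro k
      exact Complex.conj_eq_iff_im.1 (congrFun (congrArg (fun z => (z.1 : K → ℂ)) hχ) k)
  have hclass : ∀ c : ConjClasses (fixed a),
      (∀ k : fixed a, ConjClasses.mk k = c → IsConj k k⁻¹) ↔
        ∀ k : K, ConjClasses.mk k = (g c).1 → IsConj k k⁻¹ := by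
    intro c
    obtain ⟨c, rfl⟩ := ConjClasses.mk_surjective c
    rw [hg]
    constructor
    · intro h k hk
      have h1 := (fixed a).subtype.map_isConj (h c rfl)
      have hkc := ConjClasses.mk_eq_mk_iff_isConj.mp hk
      exact (hkc.trans h1).trans (isConj_map_inv hkc.symm)
    · intro h k hk
      have hck := ConjClasses.mk_eq_mk_iff_isConj.mp hk
      exact isConj_fixed hP hK (h k (ConjClasses.mk_eq_mk_iff_isConj.mpr ((fixed a).subtype.map_isConj hck)))
  calc Nat.card {χ : IrrCharacter K // (∀ k : K, ((χ : K → ℂ) k).im = 0) ∧ Inv a (χ : K → ℂ)}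
      = Nat.card {χ : {χ : IrrCharacter K // Inv a (χ : K → ℂ)} // ∀ k : K, ((χ.1 : K → ℂ) k).im = 0} :=
        Nat.card_congr ((Equiv.subtypeSubtypeEquivSubtypeInter
          (fun χ : IrrCharacter K => Inv a (χ : K → ℂ))
          (fun χ : IrrCharacter K => ∀ k : K, ((χ : K → ℂ) k).im = 0)).trans
          (Equiv.subtypeEquivRight fun _ => and_comm)).symm
    _ = Nat.card {ξ : IrrCharacter (fixed a) // ∀ c : fixed a, ((ξ : fixed a → ℂ) c).im = 0} :=
        Nat.card_congr (f.subtypeEquiv hreal)
    _ = Nat.card {c : ConjClasses (fixed a) // ∀ k : fixed a, ConjClasses.mk k = c → IsConj k k⁻¹} :=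
        card_real_irr
    _ = Nat.card {c : {c : ConjClasses K // InvClass a c} // ∀ k : K, ConjClasses.mk k = c.1 → IsConj k k⁻¹} :=
        Nat.card_congr (g.subtypeEquiv hclass)
    _ = _ := Nat.card_congr ((Equiv.subtypeSubtypeEquivSubtypeInter (InvClass a)
          (fun c : ConjClasses K => ∀ k : K, ConjClasses.mk k = c → IsConj k k⁻¹)).trans
          (Equiv.subtypeEquivRight fun _ => and_comm))

/-- If all real characters are invariant, so are all real classes. -/
theorem exists_fixed_of_real
    (hall : ∀ χ : IrrCharacter K, (∀ k : K, ((χ : K → ℂ) k).im = 0) → Inv a (χ : K → ℂ)) {k : K}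
    (hk : IsConj k k⁻¹) : ∃ k' : K, IsConj k k' ∧ ∀ x, a x k' = k' := by
  have h := card_real_inv_irr_eq (a := a) hP hK
  rw [Nat.card_congr (Equiv.subtypeEquivRight fun χ => and_iff_left_of_imp (hall χ)), card_real_irr] at h
  have hinv : InvClass a (ConjClasses.mk k) := by
    by_contra hn
    have hsub : {c : ConjClasses K | (∀ k : K, ConjClasses.mk k = c → IsConj k k⁻¹) ∧ InvClass a c} ⊂
        {c : ConjClasses K | ∀ k : K, ConjClasses.mk k = c → IsConj k k⁻¹} := by
      refine ⟨fun c hc => hc.1, fun hle => hn (hle ?_).2⟩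
      intro l hl
      have hlk := ConjClasses.mk_eq_mk_iff_isConj.mp hl
      exact (hlk.trans hk).trans (isConj_map_inv hlk.symm)
    have := Set.ncard_lt_ncard hsub (Set.toFinite _)
    rw [← Nat.card_coe_set_eq, ← Nat.card_coe_set_eq] at this
    exact absurd h (ne_of_gt this)
  obtain ⟨k', hk', hfix⟩ := exists_fixed_of_invClass hP hK hinv
  exact ⟨k', (ConjClasses.mk_eq_mk_iff_isConj.mp hk').symm, hfix⟩

end

/-- A nontrivial solvable group has a nontrivial normal subgroup of prime power order. -/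
theorem exists_normal_pGroup {S : Type v} [Group S] [Finite S] [Nontrivial S]
    (hS : Group.IsSolvable S) :
    ∃ (p : ℕ) (T : Subgroup S), p.Prime ∧ T.Normal ∧ T ≠ ⊥ ∧ IsPGroup p T := by
  have hex : ∃ n, derivedSeries S n = ⊥ := (Group.isSolvable_def S).mp hS
  have h0 : Nat.find hex ≠ 0 := fun h0 => by
    have := Nat.find_spec hex
    rw [h0, derivedSeries_zero] at this
    exact top_ne_bot this
  set A := derivedSeries S (Nat.find hex - 1) with hA
  have hAne : A ≠ ⊥ := Nat.find_min hex (by omega)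
  have hAn : A.Normal := derivedSeries_normal S _
  have hAc : ∀ x ∈ A, ∀ y ∈ A, x * y = y * x := by
    intro x hx y hy
    have h1 : ⁅x, y⁆ ∈ derivedSeries S (Nat.find hex) := by
      rw [show Nat.find hex = (Nat.find hex - 1) + 1 by omega, derivedSeries_succ]
      exact Subgroup.commutator_mem_commutator hx hy
    rw [Nat.find_spec hex, Subgroup.mem_bot] at h1
    exact commutatorElement_eq_one_iff_mul_comm.mp h1
  obtain ⟨p, hp, hpd⟩ := Nat.exists_prime_and_dvd (fun h => hAne (Subgroup.card_eq_one.mp h))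
  haveI := Fact.mk hp
  let T : Subgroup S :=
    { carrier := {x | x ∈ A ∧ ∃ j : ℕ, x ^ p ^ j = 1}
      one_mem' := ⟨A.one_mem, 0, by simp⟩
      mul_mem' := by
        rintro x y ⟨hx, i, hi⟩ ⟨hy, j, hj⟩
        refine ⟨A.mul_mem hx hy, i + j, ?_⟩
        have hc : Commute x y := hAc x hx y hy
        rw [hc.mul_pow, pow_add, pow_mul, hi, one_pow, one_mul, mul_comm, pow_mul, hj, one_pow]
      inv_mem' := by
        rintro x ⟨hx, i, hi⟩
        exact ⟨A.inv_mem hx, i, by rw [inv_pow, hi, inv_one]⟩ }
  refine ⟨p, T, hp, ⟨?_⟩, ?_, fun x => ?_⟩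
  · rintro x ⟨hx, i, hi⟩ g
    exact ⟨hAn.conj_mem x hx g, i, by rw [conj_pow, hi, mul_one, mul_inv_cancel]⟩
  · obtain ⟨x, hx⟩ := exists_prime_orderOf_dvd_card' p hpd
    intro hT
    have hmem : (x : S) ∈ T := ⟨x.2, 1, by rw [pow_one, ← hx, ← Subgroup.orderOf_coe, pow_orderOf_eq_one]⟩
    rw [hT, Subgroup.mem_bot] at hmem
    rw [← Subgroup.orderOf_coe, hmem, orderOf_one] at hx
    exact hp.ne_one hx.symm
  · obtain ⟨j, hj⟩ := x.2.2
    exact ⟨j, Subtype.ext hj⟩

theorem card_inv_irr_eq_of_solvable : ∀ (n : ℕ) {K : Type u} [Group K] [Finite K] {S : Type v}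
    [Group S] [Finite S] (a : S →* MulAut K), Nat.card S = n → Group.IsSolvable S →
    (Nat.card K).Coprime (Nat.card S) →
    Nat.card {χ : IrrCharacter K // Inv a (χ : K → ℂ)} =
      Nat.card {c : ConjClasses K // InvClass a c} := by
  intro n
  induction n using Nat.strong_induction_on with
  | _ n ih =>
    intro K _ _ S _ _ a hn hS hcop
    subst hn
    rcases subsingleton_or_nontrivial S with hs | hs
    · rw [Nat.card_congr (Equiv.subtypeUnivEquiv fun χ : IrrCharacter K => ?_),
        Nat.card_congr (Equiv.subtypeUnivEquiv fun c : ConjClasses K => ?_), card_irr_eq_card_conjClasses]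
      · intro x k hk; rwa [Subsingleton.elim x 1, map_one, MulAut.one_apply]
      · intro x k; rw [Subsingleton.elim x 1, map_one, MulAut.one_apply]
    obtain ⟨p, T, hp, hTn, hTne, hTp⟩ := exists_normal_pGroup hS
    haveI := Fact.mk hp
    have hpT : p ∣ Nat.card T := by
      obtain ⟨j, hj⟩ := IsPGroup.iff_card.mp hTp
      rw [hj]
      exact dvd_pow_self p fun h0 => hTne (Subgroup.card_eq_one.mp (by rw [hj, h0, pow_zero]))
    have hK : ¬ p ∣ Nat.card K := fun h =>
      hp.not_dvd_one (hcop.gcd_eq_one ▸ Nat.dvd_gcd h (hpT.trans (Subgroup.card_subgroup_dvd_card T)))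
    set b := a.comp T.subtype with hb
    set C := fixed b with hC
    have hCinv : ∀ s, ∀ k ∈ C, a s k ∈ C := by
      intro s k hk t
      have h1 := hk ⟨s⁻¹ * t * s, by simpa using hTn.conj_mem (t : S) t.2 s⁻¹⟩
      change a (s⁻¹ * (t : S) * s) k = k at h1
      change a (t : S) (a s k) = a s k
      conv_rhs => rw [← h1]
      rw [← MulAut.mul_apply, ← MulAut.mul_apply, ← map_mul, ← map_mul, mul_assoc s⁻¹, mul_inv_cancel_left]
    set aC := restrAut a C hCinv with haC
    have hker : T ≤ aC.ker := fun t ht => by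
      rw [MonoidHom.mem_ker]
      exact MulEquiv.ext fun k => Subtype.ext (k.2 ⟨t, ht⟩)
    set a' : S ⧸ T →* MulAut C := QuotientGroup.lift T aC hker with ha'
    have hlt : Nat.card (S ⧸ T) < Nat.card S := by
      rw [← Subgroup.index_eq_card]
      have h1 := T.card_mul_index
      have h2 : 1 < Nat.card T := by
        rcases Nat.lt_or_ge 1 (Nat.card T) with h | h
        · exact h
        · exact absurd (Subgroup.card_eq_one.mp (le_antisymm h Nat.card_pos)) hTne
      have h3 : 0 < T.index := Nat.pos_of_ne_zero Subgroup.index_ne_zero_of_finite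
      nlinarith
    have hIH := ih _ hlt a' rfl (Group.isSolvable_of_surjective (f := QuotientGroup.mk' T)
      (QuotientGroup.mk'_surjective T)) ((hcop.coprime_dvd_left (Subgroup.card_subgroup_dvd_card C)).coprime_dvd_right
        (T.index_eq_card ▸ T.index_dvd_card))
    obtain ⟨f, hf⟩ := exists_equiv_fixed (a := b) hTp hK
    obtain ⟨g, hg⟩ := bijective_classMap (a := b) hTp hK
    have hinvT : ∀ {φ : K → ℂ}, Inv a φ → Inv b φ := fun h x k => h x k
    have hcinvT : ∀ {c : ConjClasses K}, InvClass a c → InvClass b c := fun h x k => h x k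
    have hequiv : ∀ χ : {χ : IrrCharacter K // Inv b (χ : K → ℂ)},
        Inv a (χ.1 : K → ℂ) ↔ Inv a' ((f χ) : C → ℂ) := by
      intro χ
      have hmap : ∀ s : S, Inv b ((irrMap a s χ.1 : IrrCharacter K) : K → ℂ) := by
        intro s t k
        show (χ.1 : K → ℂ) (a s⁻¹ (a (t : S) k)) = (χ.1 : K → ℂ) (a s⁻¹ k)
        have := χ.2 ⟨s⁻¹ * t * s, by simpa using hTn.conj_mem (t : S) t.2 s⁻¹⟩ (a s⁻¹ k)
        change (χ.1 : K → ℂ) (a (s⁻¹ * (t : S) * s) (a s⁻¹ k)) = _ at this
        rwa [← MulAut.mul_apply, ← map_mul, mul_inv_cancel_right, map_mul, MulAut.mul_apply] at this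
      have hfs : ∀ s : S, f ⟨irrMap a s χ.1, hmap s⟩ = irrMap aC s (f χ) := by
        intro s
        refine ((hf ⟨irrMap a s χ.1, hmap s⟩ _).1 ?_).symm
        have hm : mult (irrMap a s χ.1) (irrMap aC s (f χ)) = mult χ.1 (f χ) := by
          have := Fintype.ofFinite C
          apply Nat.cast_injective (R := ℂ)
          rw [← mult_spec, ← mult_spec]
          simp only [classInner]
          congr 1
          exact Fintype.sum_equiv (aC s⁻¹).toEquiv _ _ fun c => rfl
        show (mult (irrMap a s χ.1) (irrMap aC s (f χ)) : ZMod p) ≠ 0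
        rw [hm]; exact (hf χ _).2 rfl
      rw [← irrMap_fixed_iff a χ.1]
      constructor
      · intro h s
        induction s using QuotientGroup.induction_on with
        | _ s =>
          have h1 : f ⟨irrMap a s χ.1, hmap s⟩ = f χ := congrArg f (Subtype.ext (h s))
          rw [hfs] at h1
          intro k
          have h2 := congrArg (fun z : IrrCharacter C => (z : C → ℂ) (aC s k)) h1
          have h3 : aC s⁻¹ (aC s k) = k := by
            rw [← MulAut.mul_apply, ← map_mul, inv_mul_cancel, map_one, MulAut.one_apply]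
          simp only [irrMap, h3] at h2
          show ((f χ) : C → ℂ) (aC s k) = _
          exact h2.symm
      · intro h s
        have h1 : irrMap aC s (f χ) = f χ := Subtype.ext (funext fun k => by
          have := h ((s⁻¹ : S) : S ⧸ T) k
          exact this)
        exact congrArg Subtype.val (f.injective ((hfs s).trans h1))
    have hcequiv : ∀ c : ConjClasses C, InvClass a' c ↔ InvClass a (g c).1 := by
      intro c
      obtain ⟨c, rfl⟩ := ConjClasses.mk_surjective c
      rw [hg]
      constructor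
      · intro h s k hk
        have h1 := h (s : S ⧸ T) c rfl
        have h2 : IsConj (a s (c : K)) (c : K) :=
          (C.subtype.map_isConj (ConjClasses.mk_eq_mk_iff_isConj.mp h1))
        exact ConjClasses.mk_eq_mk_iff_isConj.mpr
          (((a s).toMonoidHom.map_isConj (ConjClasses.mk_eq_mk_iff_isConj.mp hk)).trans h2)
      · intro h s k hk
        induction s using QuotientGroup.induction_on with
        | _ s =>
          have hk' := ConjClasses.mk_eq_mk_iff_isConj.mp hk
          refine ConjClasses.mk_eq_mk_iff_isConj.mpr ?_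
          refine isConj_fixed hTp hK ?_
          exact ConjClasses.mk_eq_mk_iff_isConj.mp (h s (k : K) (ConjClasses.mk_eq_mk_iff_isConj.mpr (C.subtype.map_isConj hk')))
    calc Nat.card {χ : IrrCharacter K // Inv a (χ : K → ℂ)}
        = Nat.card {χ : {χ : IrrCharacter K // Inv b (χ : K → ℂ)} // Inv a (χ.1 : K → ℂ)} :=
          Nat.card_congr (Equiv.subtypeSubtypeEquivSubtype fun {χ} h => hinvT h).symm
      _ = Nat.card {ξ : IrrCharacter C // Inv a' (ξ : C → ℂ)} :=
          Nat.card_congr (f.subtypeEquiv hequiv)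
      _ = Nat.card {c : ConjClasses C // InvClass a' c} := hIH
      _ = Nat.card {c : {c : ConjClasses K // InvClass b c} // InvClass a c.1} :=
          Nat.card_congr (g.subtypeEquiv hcequiv)
      _ = _ := Nat.card_congr (Equiv.subtypeSubtypeEquivSubtype fun {c} h => hcinvT h)

end Cfsg.Agent.Lib.Glauberman
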