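import Cfsg.Agent.Lib.Glauberman.Correspondence

/-!
# The correspondence for subgroups acting by conjugation
-/

set_option autoImplicit false
set_option linter.unusedSectionVars false

namespace Cfsg.Agent.Lib.Glauberman

open Cfsg Cfsg.Agent.Lib.Char
open scoped ComplexConjugate

universe u

variable {Γ : Type u} [Group Γ] {S G : Subgroup Γ}

/-- The action of `S` on `G` by conjugation. -/
def conjHom (h : ∀ s ∈ S, ∀ g ∈ G, s * g * s⁻¹ ∈ G) : S →* MulAut G where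
  toFun s :=
    { toFun := fun g => ⟨(s : Γ) * g * (s : Γ)⁻¹, h s s.2 g g.2⟩
      invFun := fun g => ⟨(s : Γ)⁻¹ * g * ((s : Γ)⁻¹)⁻¹, h _ (S.inv_mem s.2) g g.2⟩
      left_inv := fun g => Subtype.ext (by simp [mul_assoc])
      right_inv := fun g => Subtype.ext (by simp [mul_assoc])
      map_mul' := fun g k => Subtype.ext (by simp [mul_assoc]) }
  map_one' := MulEquiv.ext fun g => Subtype.ext (by simp)
  map_mul' s t := MulEquiv.ext fun g => Subtype.ext (by simp [mul_assoc])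

theorem coe_conjHom (h : ∀ s ∈ S, ∀ g ∈ G, s * g * s⁻¹ ∈ G) (s : S) (g : G) :
    ((conjHom h s g : G) : Γ) = (s : Γ) * g * (s : Γ)⁻¹ := rfl

theorem inv_conjHom_iff (h : ∀ s ∈ S, ∀ g ∈ G, s * g * s⁻¹ ∈ G) (θ : G → ℂ) :
    Inv (conjHom h) θ ↔ ∀ s ∈ S, ∀ g g' : G, (g' : Γ) = s * g * s⁻¹ → θ g' = θ g := by
  refine ⟨fun hθ s hs g g' e => ?_, fun hθ s g => hθ s s.2 g _ rfl⟩
  rw [show g' = conjHom h ⟨s, hs⟩ g from Subtype.ext e]
  exact hθ _ _

variable {C : Subgroup Γ}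

/-- Irreducible characters of `C` seen on `C.subgroupOf G`. -/
noncomputable def irrSub (hCG : C ≤ G) : IrrCharacter C ≃ IrrCharacter (C.subgroupOf G) where
  toFun ζ := ⟨fun c => (ζ : C → ℂ) (Subgroup.subgroupOfEquivOfLe hCG c),
    isIrrCharacter_comp ζ.2 (Subgroup.subgroupOfEquivOfLe hCG).toMonoidHom
      (Subgroup.subgroupOfEquivOfLe hCG).surjective⟩
  invFun ζ := ⟨fun c => (ζ : C.subgroupOf G → ℂ) ((Subgroup.subgroupOfEquivOfLe hCG).symm c),
    isIrrCharacter_comp ζ.2 (Subgroup.subgroupOfEquivOfLe hCG).symm.toMonoidHom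
      (Subgroup.subgroupOfEquivOfLe hCG).symm.surjective⟩
  left_inv ζ := Subtype.ext (funext fun c =>
    congrArg (ζ : C → ℂ) ((Subgroup.subgroupOfEquivOfLe hCG).apply_symm_apply c))
  right_inv ζ := Subtype.ext (funext fun c =>
    congrArg (ζ : C.subgroupOf G → ℂ) ((Subgroup.subgroupOfEquivOfLe hCG).symm_apply_apply c))

theorem charDegree_irrSub [Finite Γ] (hCG : C ≤ G) (ζ : IrrCharacter C) :
    charDegree ((irrSub hCG ζ) : C.subgroupOf G → ℂ) = charDegree (ζ : C → ℂ) := by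
  apply Nat.cast_injective (R := ℂ)
  rw [← CharAux.charDegree_eq (isCharacter_of_isIrr (irrSub hCG ζ).2),
    ← CharAux.charDegree_eq (isCharacter_of_isIrr ζ.2)]
  show (ζ : C → ℂ) (Subgroup.subgroupOfEquivOfLe hCG 1) = _
  rw [map_one]

theorem classInner_eq_mult [Finite Γ] [Fintype C] (hCG : C ≤ G) (χ : IrrCharacter G) (ζ : IrrCharacter C) :
    classInner (fun c : C => (χ : G → ℂ) ⟨c, hCG c.2⟩) (ζ : C → ℂ) = (mult χ (irrSub hCG ζ) : ℂ) := by
  have := Fintype.ofFinite (C.subgroupOf G)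
  rw [← mult_spec]
  simp only [classInner]
  rw [Nat.card_congr (Subgroup.subgroupOfEquivOfLe hCG).toEquiv]
  congr 1
  exact Fintype.sum_equiv (Subgroup.subgroupOfEquivOfLe hCG).symm.toEquiv _ _ fun c =>
    congrArg ((χ : G → ℂ) ⟨c, hCG c.2⟩ * conj ·)
      (congrArg (ζ : C → ℂ) ((Subgroup.subgroupOfEquivOfLe hCG).apply_symm_apply c)).symm

theorem inv_autC_irrSub_iff [Finite Γ] {p : ℕ} [Fact p.Prime] {h : ∀ s ∈ S, ∀ g ∈ G, s * g * s⁻¹ ∈ G}
    (hCG : C ≤ G) {Q : Subgroup G} (St : Setup (conjHom h) p Q (C.subgroupOf G)) (ζ : IrrCharacter C) :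
    Inv St.autC ((irrSub hCG ζ) : C.subgroupOf G → ℂ) ↔
      ∀ s ∈ S, ∀ c c' : C, (c' : Γ) = s * c * s⁻¹ → (ζ : C → ℂ) c' = (ζ : C → ℂ) c := by
  refine ⟨fun hi s hs c c' e => ?_, fun hi s c => hi s s.2 _ _ rfl⟩
  have h1 := hi ⟨s, hs⟩ ((Subgroup.subgroupOfEquivOfLe hCG).symm c)
  simp only [irrSub, Equiv.coe_fn_mk, MulEquiv.apply_symm_apply] at h1
  rw [← h1]
  exact congrArg (ζ : C → ℂ) (Subtype.ext e)

end Cfsg.Agent.Lib.Glauberman
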