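import Cfsg.Agent.Lib.Glauberman.Lemma
import Cfsg.Agent.Lib.Glauberman.Coprime
import Cfsg.Agent.Lib.Glauberman.Subgroup
import Cfsg.Agent.Lib.Char.Prod
import Cfsg.Agent.Lib.CharClifford.Gallagher
import Cfsg.Agent.Lib.CharClifford.Extend
import Cfsg.Agent.Lib.Coprime.Action
import Cfsg.Agent.S0867

/-!
# Characters of degree prime to a complement
-/

set_option autoImplicit false
set_option linter.unusedSectionVars false
set_option linter.style.haveILetI false

namespace Cfsg.Agent.Lib.Glauberman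

open Cfsg Cfsg.Agent.Lib.Char
open scoped ComplexConjugate Classical

universe u

/-- The classes of the fixed subgroup are the invariant classes, for solvable operators. -/
theorem card_conjClasses_fixed {K A : Type u} [Group K] [Finite K] [Group A] [Finite A]
    (a : A →* MulAut K) (hA : Group.IsSolvable A) (hcop : (Nat.card K).Coprime (Nat.card A)) :
    Nat.card (ConjClasses (fixed a)) = Nat.card {c : ConjClasses K // InvClass a c} := by
  have hinv : ∀ c : fixed a, InvClass a (ConjClasses.mk (c : K)) := by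
    intro c x k hk
    obtain ⟨d, rfl⟩ := isConj_iff.mp (ConjClasses.mk_eq_mk_iff_isConj.mp hk.symm)
    rw [map_mul, map_mul, map_inv, c.2 x, ConjClasses.mk_eq_mk_iff_isConj]
    exact (isConj_iff.mpr ⟨a x d, rfl⟩).symm
  let g0 : ConjClasses (fixed a) → {c : ConjClasses K // InvClass a c} := fun c =>
    ⟨ConjClasses.map (fixed a).subtype c, by
      obtain ⟨c, rfl⟩ := ConjClasses.mk_surjective c
      exact hinv c⟩
  refine Nat.card_congr (Equiv.ofBijective g0 ⟨fun c d h => ?_, fun c => ?_⟩)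
  · obtain ⟨c, rfl⟩ := ConjClasses.mk_surjective c
    obtain ⟨d, rfl⟩ := ConjClasses.mk_surjective d
    obtain ⟨k₀, hk₀⟩ := isConj_iff.mp (ConjClasses.mk_eq_mk_iff_isConj.mp (congrArg Subtype.val h))
    let Z : Subgroup K := Subgroup.centralizer {(c : K)}
    let X := {k : K // k * c * k⁻¹ = d}
    haveI : Nonempty X := ⟨⟨k₀, hk₀⟩⟩
    have hZ : ∀ x, ∀ z ∈ Z, a x z ∈ Z := fun x z hz => by
      have h1 := congrArg (a x) (Subgroup.mem_centralizer_singleton_iff.mp hz)
      rw [map_mul, map_mul, c.2 x] at h1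
      exact Subgroup.mem_centralizer_singleton_iff.mpr h1
    letI : MulAction Z X :=
      { smul := fun z k => ⟨k.1 * (z : K)⁻¹, by
          have h1 := Subgroup.mem_centralizer_singleton_iff.mp z.2
          calc k.1 * (z : K)⁻¹ * c * (k.1 * (z : K)⁻¹)⁻¹
              = k.1 * ((z : K)⁻¹ * ((c : K) * z)) * k.1⁻¹ := by group
            _ = k.1 * ((z : K)⁻¹ * ((z : K) * c)) * k.1⁻¹ := by rw [h1]
            _ = d := by rw [inv_mul_cancel_left]; exact k.2⟩
        one_smul := fun k => Subtype.ext (by show k.1 * ((1 : Z) : K)⁻¹ = k.1; simp)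
        mul_smul := fun z w k => Subtype.ext (by
          show k.1 * ((z * w : Z) : K)⁻¹ = k.1 * (w : K)⁻¹ * (z : K)⁻¹; simp [mul_assoc]) }
    letI : MulAction A X :=
      { smul := fun x k => ⟨a x k, by
          have h1 := congrArg (a x) k.2
          rwa [map_mul, map_mul, map_inv, c.2 x, d.2 x] at h1⟩
        one_smul := fun k => Subtype.ext (by show a 1 k = k; rw [map_one, MulAut.one_apply])
        mul_smul := fun x y k => Subtype.ext (by
          show a (x * y) k = a x (a y k); rw [map_mul, MulAut.mul_apply]) }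
    obtain ⟨k, hk⟩ := exists_fixed_point (X := X) (restrAut a Z hZ) (fun x z k => Subtype.ext (by
        show a x (k.1 * (z : K)⁻¹) = a x k.1 * (a x (z : K))⁻¹
        rw [map_mul, map_inv]))
      (fun k l => by
        refine ⟨⟨l.1⁻¹ * k.1, Subgroup.mem_centralizer_singleton_iff.mpr ?_⟩, Subtype.ext ?_⟩
        · calc l.1⁻¹ * k.1 * c = l.1⁻¹ * (k.1 * c * k.1⁻¹) * k.1 := by group
            _ = l.1⁻¹ * (l.1 * c * l.1⁻¹) * k.1 := by rw [k.2, l.2]
            _ = c * (l.1⁻¹ * k.1) := by group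
        · show k.1 * (l.1⁻¹ * k.1)⁻¹ = l.1; group)
      (hcop.coprime_dvd_left (Subgroup.card_subgroup_dvd_card Z)) (Or.inr hA)
    exact ConjClasses.mk_eq_mk_iff_isConj.mpr (isConj_iff.mpr
      ⟨⟨k.1, fun x => congrArg Subtype.val (hk x)⟩, Subtype.ext k.2⟩)
  · obtain ⟨c, hc⟩ := c
    obtain ⟨k₀, rfl⟩ := ConjClasses.mk_surjective c
    let X := {k : K // ConjClasses.mk k = ConjClasses.mk k₀}
    haveI : Nonempty X := ⟨⟨k₀, rfl⟩⟩
    letI : MulAction K X :=
      { smul := fun g k => ⟨g * k * g⁻¹, (ConjClasses.mk_eq_mk_iff_isConj.mpr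
          (isConj_iff.mpr ⟨g, rfl⟩)).symm.trans k.2⟩
        one_smul := fun k => Subtype.ext (by show 1 * k.1 * 1⁻¹ = k.1; simp)
        mul_smul := fun g h k => Subtype.ext (by
          show g * h * k.1 * (g * h)⁻¹ = g * (h * k.1 * h⁻¹) * g⁻¹; group) }
    letI : MulAction A X :=
      { smul := fun x k => ⟨a x k, hc x k k.2⟩
        one_smul := fun k => Subtype.ext (by show a 1 k = k; rw [map_one, MulAut.one_apply])
        mul_smul := fun x y k => Subtype.ext (by
          show a (x * y) k = a x (a y k); rw [map_mul, MulAut.mul_apply]) }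
    obtain ⟨k, hk⟩ := exists_fixed_point (X := X) a (fun x g k => Subtype.ext (by
        show a x (g * k.1 * g⁻¹) = a x g * a x k.1 * (a x g)⁻¹
        rw [map_mul, map_mul, map_inv]))
      (fun k l => by
        obtain ⟨g, hg⟩ := isConj_iff.mp (ConjClasses.mk_eq_mk_iff_isConj.mp (k.2.trans l.2.symm))
        exact ⟨g, Subtype.ext hg⟩)
      hcop (Or.inr hA)
    exact ⟨ConjClasses.mk ⟨k.1, fun x => congrArg Subtype.val (hk x)⟩, Subtype.ext k.2⟩

/-- As many invariant characters as characters of the fixed subgroup. -/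
theorem card_inv_irr_eq_fixed {K A : Type u} [Group K] [Finite K] [Group A] [Finite A]
    (a : A →* MulAut K) (hA : Group.IsSolvable A) (hcop : (Nat.card K).Coprime (Nat.card A)) :
    Nat.card {χ : IrrCharacter K // Inv a (χ : K → ℂ)} = Nat.card (IrrCharacter (fixed a)) := by
  rw [card_inv_irr_eq_of_solvable _ a rfl hA hcop, card_irr_eq_card_conjClasses,
    card_conjClasses_fixed a hA hcop]

theorem card_coprime_degree_prod {C H : Type u} [Group C] [Finite C] [Group H] [Finite H]
    (hcop : (Nat.card C).Coprime (Nat.card H)) :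
    Nat.card {η : IrrCharacter (C × H) // (charDegree (η : C × H → ℂ)).Coprime (Nat.card H)} =
      Nat.card (IrrCharacter C × (H →* ℂˣ)) := by
  have hdeg : ∀ (φ : C → ℂ) (ψ : H → ℂ), IsIrrCharacter C φ → IsIrrCharacter H ψ →
      charDegree (fun x : C × H => φ x.1 * ψ x.2) = charDegree φ * charDegree ψ := by
    intro φ ψ hφ hψ
    refine charDegree_eq_of_apply_one ?_
    rw [Prod.fst_one, Prod.snd_one, apply_one_eq_charDegree (isCharacter_of_isIrr hφ),
      apply_one_eq_charDegree (isCharacter_of_isIrr hψ)]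
    push_cast
    rfl
  let F : IrrCharacter C × (H →* ℂˣ) →
      {η : IrrCharacter (C × H) // (charDegree (η : C × H → ℂ)).Coprime (Nat.card H)} := fun z =>
    ⟨⟨fun x : C × H => (z.1 : C → ℂ) x.1 * (z.2 x.2 : ℂ), isIrrCharacter_prod z.1.2 (isIrrCharacter_linear z.2)⟩,
      by
        show (charDegree fun x : C × H => (z.1 : C → ℂ) x.1 * (z.2 x.2 : ℂ)).Coprime _
        rw [hdeg _ (fun h => (z.2 h : ℂ)) z.1.2 (isIrrCharacter_linear z.2),
          charDegree_eq_of_apply_one (χ := fun h => (z.2 h : ℂ)) (n := 1) (by simp), mul_one]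
        exact hcop.coprime_dvd_left (charDegree_dvd_card z.1.2)⟩
  refine (Nat.card_congr (Equiv.ofBijective F ⟨fun z w h => ?_, fun η => ?_⟩)).symm
  · have h' : ∀ x : C × H, (z.1 : C → ℂ) x.1 * (z.2 x.2 : ℂ) = (w.1 : C → ℂ) x.1 * (w.2 x.2 : ℂ) := fun x =>
      congrFun (congrArg Subtype.val (congrArg Subtype.val h)) x
    have h1 : z.1 = w.1 := Subtype.ext (funext fun c => by simpa using h' (c, 1))
    refine Prod.ext h1 (MonoidHom.ext fun t => Units.ext ?_)
    have := h' (1, t)
    rw [h1] at this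
    exact mul_left_cancel₀ (by
      have := Fintype.ofFinite C
      exact irr_degree_ne_zero w.1.2) this
  · obtain ⟨φ, ψ, hφ, hψ, e⟩ := exists_prod_eq η.1.2
    have h2 := η.2
    rw [e, hdeg φ ψ hφ hψ] at h2
    have hψ1 : charDegree ψ = 1 :=
      Nat.Coprime.eq_one_of_dvd (h2.coprime_dvd_left (dvd_mul_left _ _)) (charDegree_dvd_card hψ)
    obtain ⟨l, hl⟩ := exists_hom_of_degree_one (isCharacter_of_isIrr hψ) (by
      rw [apply_one_eq_charDegree (isCharacter_of_isIrr hψ), hψ1, Nat.cast_one])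
    refine ⟨(⟨φ, hφ⟩, l), Subtype.ext (Subtype.ext ?_)⟩
    rw [e]
    funext x
    show φ x.1 * (l x.2 : ℂ) = φ x.1 * ψ x.2
    rw [hl]

theorem card_coprime_degree_eq {G : Type u} [Group G] [Finite G] (K H : Subgroup G) [K.Normal]
    (hKH : K ⊔ H = ⊤) (hcop : (Nat.card K).Coprime (Nat.card H)) (hsolv : Group.IsSolvable H) :
    Nat.card {χ : IrrCharacter G // (charDegree (χ : G → ℂ)).Coprime (Nat.card H)} =
      Nat.card {η : IrrCharacter (Subgroup.normalizer (H : Set G)) //
        (charDegree (η : Subgroup.normalizer (H : Set G) → ℂ)).Coprime (Nat.card H)} := by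
  have hnorm : ∀ s ∈ H, ∀ k ∈ K, s * k * s⁻¹ ∈ K := fun s _ k hk =>
    (inferInstance : K.Normal).conj_mem k hk s
  have hinf : K ⊓ H = ⊥ := Coprime.inf_eq_bot_of_coprime hcop
  have hmem : ∀ g : G, ∃ k ∈ K, ∃ h ∈ H, k * h = g := fun g => by
    have hg : g ∈ K ⊔ H := hKH ▸ Subgroup.mem_top g
    rwa [← SetLike.mem_coe, Subgroup.normal_mul, Set.mem_mul] at hg
  set a := conjHom hnorm with ha
  set C := fixed a with hC
  -- the normalizer
  let e : C × H →* Subgroup.normalizer (H : Set G) :=
    { toFun := fun z => ⟨((z.1 : K) : G) * (z.2 : G), by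
        refine mul_mem (Subgroup.mem_normalizer_iff.mpr fun h => ?_) (Subgroup.le_normalizer z.2.2)
        have hc : ∀ s ∈ H, ((z.1 : K) : G) * s * ((z.1 : K) : G)⁻¹ = s := fun s hs => by
          have h1 := congrArg Subtype.val (z.1.2 ⟨s, hs⟩)
          change s * ((z.1 : K) : G) * s⁻¹ = ((z.1 : K) : G) at h1
          rw [← mul_inv_eq_iff_eq_mul.mp h1, mul_inv_cancel_right]
        refine ⟨fun hh => by rw [hc h hh]; exact hh, fun hh => ?_⟩
        have h1 := hc _ hh
        have h2 : ((z.1 : K) : G) * h * ((z.1 : K) : G)⁻¹ = h := by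
          calc ((z.1 : K) : G) * h * ((z.1 : K) : G)⁻¹
              = ((z.1 : K) : G)⁻¹ * (((z.1 : K) : G) * (((z.1 : K) : G) * h * ((z.1 : K) : G)⁻¹) *
                  ((z.1 : K) : G)⁻¹) * ((z.1 : K) : G) := by group
            _ = ((z.1 : K) : G)⁻¹ * (((z.1 : K) : G) * h * ((z.1 : K) : G)⁻¹) * ((z.1 : K) : G) := by
                rw [h1]
            _ = h := by group
        rwa [h2] at hh⟩
      map_one' := Subtype.ext (by simp)
      map_mul' := fun z w => Subtype.ext (by
        show ((z.1 : K) : G) * ((w.1 : K) : G) * ((z.2 : G) * w.2) =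
          ((z.1 : K) : G) * (z.2 : G) * (((w.1 : K) : G) * w.2)
        have h1 := congrArg Subtype.val (w.1.2 z.2)
        change (z.2 : G) * ((w.1 : K) : G) * (z.2 : G)⁻¹ = ((w.1 : K) : G) at h1
        conv_lhs => rw [← h1]
        group) }
  have hbij : Function.Bijective e := by
    refine ⟨(injective_iff_map_eq_one e).mpr fun z hz => ?_, fun n => ?_⟩
    · have h1 : ((z.1 : K) : G) * (z.2 : G) = 1 := congrArg Subtype.val hz
      have h2 : (z.2 : G) = ((z.1 : K) : G)⁻¹ := eq_inv_of_mul_eq_one_right h1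
      have h3 : (z.2 : G) ∈ K ⊓ H := ⟨h2 ▸ K.inv_mem (z.1 : K).2, z.2.2⟩
      rw [hinf, Subgroup.mem_bot] at h3
      rw [h3, mul_one] at h1
      exact Prod.ext (Subtype.ext (Subtype.ext h1)) (Subtype.ext h3)
    · obtain ⟨k, hk, h, hh, hkh⟩ := hmem n
      have hkN : k ∈ Subgroup.normalizer (H : Set G) := by
        have := mul_mem n.2 ((Subgroup.normalizer (H : Set G)).inv_mem (Subgroup.le_normalizer (H := H) hh))
        rwa [← hkh, mul_inv_cancel_right] at this
      have hfix : ∀ x : H, a x ⟨k, hk⟩ = ⟨k, hk⟩ := by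
        intro x
        refine Subtype.ext ?_
        show (x : G) * k * (x : G)⁻¹ = k
        have h1 : (x : G) * k * (x : G)⁻¹ * k⁻¹ ∈ K ⊓ H := by
          refine ⟨mul_mem (hnorm x x.2 k hk) (K.inv_mem hk), ?_⟩
          rw [show (x : G) * k * (x : G)⁻¹ * k⁻¹ = (x : G) * (k * (x : G)⁻¹ * k⁻¹) by group]
          exact mul_mem x.2 ((Subgroup.mem_normalizer_iff.mp hkN _).mp (inv_mem x.2))
        rw [hinf, Subgroup.mem_bot, mul_inv_eq_one] at h1
        exact h1
      exact ⟨(⟨⟨k, hk⟩, hfix⟩, ⟨h, hh⟩), Subtype.ext hkh⟩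
  let eN := MulEquiv.ofBijective e hbij
  have hcopC : (Nat.card C).Coprime (Nat.card H) :=
    hcop.coprime_dvd_left (Subgroup.card_subgroup_dvd_card C)
  have hN : Nat.card {η : IrrCharacter (Subgroup.normalizer (H : Set G)) //
        (charDegree (η : Subgroup.normalizer (H : Set G) → ℂ)).Coprime (Nat.card H)} =
      Nat.card {η : IrrCharacter (C × H) // (charDegree (η : C × H → ℂ)).Coprime (Nat.card H)} := by
    let E : IrrCharacter (Subgroup.normalizer (H : Set G)) ≃ IrrCharacter (C × H) :=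
      { toFun := fun η => ⟨fun z => (η : Subgroup.normalizer (H : Set G) → ℂ) (eN z), isIrrCharacter_comp η.2 eN.toMonoidHom eN.surjective⟩
        invFun := fun η => ⟨fun n => (η : C × H → ℂ) (eN.symm n),
          isIrrCharacter_comp η.2 eN.symm.toMonoidHom eN.symm.surjective⟩
        left_inv := fun η => Subtype.ext (funext fun n => congrArg (η : Subgroup.normalizer (H : Set G) → ℂ) (eN.apply_symm_apply n))
        right_inv := fun η => Subtype.ext (funext fun n => congrArg (η : C × H → ℂ) (eN.symm_apply_apply n)) }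
    refine Nat.card_congr (E.subtypeEquiv fun η => ?_)
    have hd : charDegree (fun z => (η : Subgroup.normalizer (H : Set G) → ℂ) (eN z)) = charDegree (η : Subgroup.normalizer (H : Set G) → ℂ) := by
      rw [charDegree, charDegree, map_one]
    show _ ↔ (charDegree (fun z => (η : Subgroup.normalizer (H : Set G) → ℂ) (eN z))).Coprime _
    rw [hd]
  rw [hN, card_coprime_degree_prod hcopC]
  -- the group
  have hindex : K.index = Nat.card H := by
    have e1 := Coprime.card_sup_mul_card_inf_of_le_normalizer (A := H) (N := K)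
      (Subgroup.normalizer_eq_top (H := K) ▸ le_top)
    rw [sup_comm, hKH, inf_comm, hinf, Subgroup.card_bot, mul_one, Subgroup.card_top,
      ← K.card_mul_index, mul_comm (Nat.card H)] at e1
    exact Nat.eq_of_mul_eq_mul_left Nat.card_pos e1
  let q : H →* G ⧸ K := (QuotientGroup.mk' K).comp H.subtype
  have hq : Function.Bijective q := by
    refine ⟨(injective_iff_map_eq_one q).mpr fun x hx => ?_, fun z => ?_⟩
    · have h3 : (x : G) ∈ K ⊓ H := ⟨(QuotientGroup.eq_one_iff _).mp hx, x.2⟩
      rw [hinf, Subgroup.mem_bot] at h3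
      exact Subtype.ext h3
    · obtain ⟨g, rfl⟩ := QuotientGroup.mk'_surjective K z
      obtain ⟨k, hk, h, hh, rfl⟩ := hmem g
      exact ⟨⟨h, hh⟩, by simp [q, (QuotientGroup.eq_one_iff k).mpr hk]⟩
  let π : G →* H := (MulEquiv.ofBijective q hq).symm.toMonoidHom.comp (QuotientGroup.mk' K)
  have hπH : ∀ x : H, π (x : G) = x := fun x => (MulEquiv.ofBijective q hq).symm_apply_apply x
  have hπK : ∀ k ∈ K, π k = 1 := fun k hk => by
    show (MulEquiv.ofBijective q hq).symm (k : G ⧸ K) = 1
    rw [(QuotientGroup.eq_one_iff k).mpr hk, map_one]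
  have hGinv : ∀ θ : IrrCharacter K, Inv a (θ : K → ℂ) → ∀ (g : G) (n : K),
      (θ : K → ℂ) ⟨g * n * g⁻¹, (inferInstance : K.Normal).conj_mem (n : G) n.2 g⟩ = (θ : K → ℂ) n := by
    intro θ hθ g n
    obtain ⟨k, hk, h, hh, rfl⟩ := hmem g
    rw [show (⟨k * h * n * (k * h)⁻¹, _⟩ : K) = ⟨k, hk⟩ * a ⟨h, hh⟩ n * (⟨k, hk⟩ : K)⁻¹ from
      Subtype.ext (by
        show k * h * (n : G) * (k * h)⁻¹ = k * (h * (n : G) * h⁻¹) * k⁻¹
        group), isClassFunction_of_isIrr θ.2, hθ]
  have hex : ∀ θ : {θ : IrrCharacter K // Inv a (θ : K → ℂ)}, ∃ χ : G → ℂ, IsIrrCharacter G χ ∧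
      ∀ k : K, χ k = (θ.1 : K → ℂ) k := by
    intro θ
    obtain ⟨χ, ⟨hχ, hext, -⟩, -⟩ := S0867.result K (θ.1 : K → ℂ) θ.1.2 (hGinv θ.1 θ.2)
      (charDegree (θ.1 : K → ℂ)) (apply_one_eq_charDegree (isCharacter_of_isIrr θ.1.2)) (by
        rw [hindex]
        refine Nat.Coprime.mul_right (hcop.symm.coprime_dvd_right ?_)
          (hcop.symm.coprime_dvd_right (charDegree_dvd_card θ.1.2))
        obtain ⟨n, ρ, hρ, -, -, hdet⟩ := CharClifford.exists_detHom θ.1.2
        refine orderOf_dvd_of_pow_eq_one (funext fun g => ?_)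
        rw [Pi.pow_apply, Pi.one_apply, hdet, ← Units.val_pow_eq_pow_val, ← map_pow, pow_card_eq_one',
          map_one, Units.val_one])
    exact ⟨χ, hχ, hext⟩
  choose θh hθh hθext using hex
  let F : {θ : IrrCharacter K // Inv a (θ : K → ℂ)} × (H →* ℂˣ) →
      {χ : IrrCharacter G // (charDegree (χ : G → ℂ)).Coprime (Nat.card H)} := fun z =>
    ⟨⟨fun g => (z.2 (π g) : ℂ) * θh z.1 g, isIrrCharacter_linear_mul (hθh z.1) (z.2.comp π)⟩, by
      have hd : charDegree (fun g => (z.2 (π g) : ℂ) * θh z.1 g) = charDegree (z.1.1 : K → ℂ) := by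
        refine charDegree_eq_of_apply_one ?_
        rw [map_one, map_one, Units.val_one, one_mul]
        exact ((hθext z.1 1).trans (apply_one_eq_charDegree (isCharacter_of_isIrr z.1.1.2)))
      show (charDegree fun g => (z.2 (π g) : ℂ) * θh z.1 g).Coprime _
      rw [hd]
      exact hcop.coprime_dvd_left (charDegree_dvd_card z.1.1.2)⟩
  have hF : Function.Bijective F := by
    refine ⟨fun z w h => ?_, fun χ => ?_⟩
    · have h' : ∀ g, (z.2 (π g) : ℂ) * θh z.1 g = (w.2 (π g) : ℂ) * θh w.1 g := fun g =>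
        congrFun (congrArg Subtype.val (congrArg Subtype.val h)) g
      have h1 : z.1 = w.1 := Subtype.ext (Subtype.ext (funext fun k => by
        have := h' k
        rw [hπK k k.2, map_one, map_one, Units.val_one, one_mul, one_mul, hθext, hθext] at this
        exact this))
      refine Prod.ext h1 (MonoidHom.ext fun x => Units.ext ?_)
      have := Fintype.ofFinite K
      have := Fintype.ofFinite G
      have hirr : IsIrrCharacter K ((fun _ : K => (1 : ℂ)) * (w.1.1 : K → ℂ)) := by
        rw [show (fun _ : K => (1 : ℂ)) * (w.1.1 : K → ℂ) = (w.1.1 : K → ℂ) from funext fun k => one_mul _]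
        exact w.1.1.2
      have hb := CharClifford.gallagher_bijOn K (φ := fun _ => 1) isIrrCharacter_one
        (fun g => rfl) hirr (isCharacter_of_isIrr (hθh w.1)) (hθext w.1)
      have hset : ∀ l : H →* ℂˣ, (fun g => (l (π g) : ℂ)) ∈
          {β : G → ℂ | IsIrrCharacter G β ∧ classInner (indFun K (fun _ => 1)) β ≠ 0} := by
        intro l
        refine ⟨isIrrCharacter_linear (l.comp π), ?_⟩
        have hcl : IsClassFunction G (fun g => (l (π g) : ℂ)) :=
          isClassFunction_of_isIrr (isIrrCharacter_linear (l.comp π))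
        rw [classInner_indFun K _ hcl,
          show (fun x : K => (l (π (x : G)) : ℂ)) = fun _ => 1 from funext fun x => by
            rw [hπK x x.2, map_one, Units.val_one], classInner_irr_self isIrrCharacter_one]
        exact one_ne_zero
      have := congrFun (hb.2.1 (hset z.2) (hset w.2) (funext fun g => by
        show (z.2 (π g) : ℂ) * θh w.1 g = (w.2 (π g) : ℂ) * θh w.1 g
        have := h' g
        rwa [h1] at this)) (x : G)
      simpa [hπH] using this
    · have := Fintype.ofFinite K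
      have := Fintype.ofFinite G
      obtain ⟨θ, hθ⟩ := exists_constituent (G := K) (isCharacter_restrict (isCharacter_of_isIrr χ.1.2) K)
        (fun h => irr_degree_ne_zero χ.1.2 (by simpa using congrFun h 1))
      obtain ⟨m, hm⟩ := classInner_natCast (isCharacter_restrict (isCharacter_of_isIrr χ.1.2) K)
        (isCharacter_of_isIrr θ.2)
      have hd := clifford_degree K χ.1.2 θ.2 hθ
      rw [hm, apply_one_eq_charDegree (isCharacter_of_isIrr χ.1.2),
        apply_one_eq_charDegree (isCharacter_of_isIrr θ.2)] at hd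
      have hd' : charDegree (χ.1 : G → ℂ) =
          m * (inertia K (θ : K → ℂ)).index * charDegree (θ : K → ℂ) := by exact_mod_cast hd
      have ht : (inertia K (θ : K → ℂ)).index = 1 :=
        Nat.Coprime.eq_one_of_dvd (χ.2.coprime_dvd_left ((hd'.symm ▸ (dvd_mul_left _ _).mul_right _)))
          (hindex ▸ Subgroup.index_dvd_of_le (le_inertia K (isClassFunction_of_isIrr θ.2)))
      have hinv : Inv a (θ : K → ℂ) := fun x k => by
        have hx : (x : G) ∈ inertia K (θ : K → ℂ) := by
          rw [Subgroup.index_eq_one.mp ht]; trivial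
        have h1 := congrFun ((mem_inertia K).mp hx) k
        rw [conjChar_apply] at h1
        exact h1
      obtain ⟨β, hβ, hβK, hβeq⟩ := CharClifford.gallagher_exists K θ.2
        (isCharacter_of_isIrr (hθh ⟨θ, hinv⟩)) (hθext ⟨θ, hinv⟩) χ.1.2 hθ
      obtain ⟨ψ, hψ, hψβ⟩ := exists_irr_deflation hβ K fun n hn => hβK ⟨n, hn⟩
      have hβ1 : charDegree β = 1 := by
        have h1 : charDegree β = charDegree ψ := by
          rw [charDegree, charDegree, ← hψβ 1]; rfl
        refine Nat.Coprime.eq_one_of_dvd ?_ (h1 ▸ hindex ▸ K.index_eq_card ▸ charDegree_dvd_card hψ)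
        refine χ.2.coprime_dvd_left ⟨charDegree (θh ⟨θ, hinv⟩), ?_⟩
        refine charDegree_eq_of_apply_one ?_
        rw [hβeq, Pi.mul_apply, apply_one_eq_charDegree (isCharacter_of_isIrr hβ),
          apply_one_eq_charDegree (isCharacter_of_isIrr (hθh ⟨θ, hinv⟩))]
        push_cast
        rfl
      obtain ⟨l, hl⟩ := exists_hom_of_degree_one (isCharacter_of_isIrr hβ) (by
        rw [apply_one_eq_charDegree (isCharacter_of_isIrr hβ), hβ1, Nat.cast_one])
      refine ⟨(⟨θ, hinv⟩, l.comp H.subtype), Subtype.ext (Subtype.ext ?_)⟩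
      rw [hβeq]
      funext g
      show (l (π g : G) : ℂ) * θh ⟨θ, hinv⟩ g = β g * θh ⟨θ, hinv⟩ g
      congr 1
      obtain ⟨k, hk, h, hh, rfl⟩ := hmem g
      rw [map_mul π, hπK k hk, one_mul, hπH ⟨h, hh⟩, hl, map_mul l, Units.val_mul, ← hl k,
        hβK ⟨k, hk⟩, apply_one_eq_charDegree (isCharacter_of_isIrr hβ), hβ1, Nat.cast_one, one_mul]
  rw [← Nat.card_congr (Equiv.ofBijective F hF), Nat.card_prod, Nat.card_prod,
    card_inv_irr_eq_fixed a hsolv hcop]

end Cfsg.Agent.Lib.Glauberman
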