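import Cfsg.Agent.Lib.Glauberman.Lemma
import Cfsg.Agent.Lib.Glauberman.Coset
import Cfsg.Agent.Lib.Glauberman.Coprime
import Cfsg.Agent.Lib.Char.Clifford
import Cfsg.Agent.Lib.Char.Degree
import Mathlib.GroupTheory.Abelianization.Defs

/-!
# Invariant constituents above and below
-/

set_option autoImplicit false
set_option linter.unusedSectionVars false
set_option linter.style.haveILetI false

namespace Cfsg.Agent.Lib.Glauberman

open Cfsg Cfsg.Agent.Lib.Char
open scoped ComplexConjugate Classical commutatorElement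

universe u

theorem classInner_equiv {H H' : Type u} [Group H] [Group H'] [Fintype H] [Fintype H'] (e : H ≃* H')
    (f g : H' → ℂ) : classInner (fun x => f (e x)) (fun x => g (e x)) = classInner f g := by
  simp only [classInner, Nat.card_congr e.toEquiv]
  congr 1
  exact Fintype.sum_equiv e.toEquiv _ _ fun x => rfl

/-- The inner product of a restriction as a sum over the constituents of an intermediate character. -/
theorem classInner_comp_eq_sum {M H : Type u} [Group M] [Group H] [Fintype M] [Fintype H]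
    {φ : M → ℂ} (hφ : IsClassFunction M φ) (j : H → M) (g : H → ℂ) :
    classInner (fun z => φ (j z)) g =
      ∑ ψ : IrrCharacter M, classInner φ ψ * classInner (fun z => (ψ : M → ℂ) (j z)) g := by
  have h1 : (fun z => φ (j z)) =
      ∑ ψ : IrrCharacter M, classInner φ ψ • fun z => (ψ : M → ℂ) (j z) := by
    funext z
    conv_lhs => rw [eq_sum_classInner_smul hφ]
    simp [Finset.sum_apply]
  rw [h1, classInner_sum_left]
  exact Finset.sum_congr rfl fun ψ _ => classInner_smul_left _ _ _

theorem sum_nat_ne_zero {ι : Type*} [Fintype ι] (f g : ι → ℕ) (i : ι) (hf : f i ≠ 0) (hg : g i ≠ 0) :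
    ∑ j, (f j : ℂ) * (g j : ℂ) ≠ 0 := by
  intro h
  have h1 : ∑ j, f j * g j = 0 := by exact_mod_cast h
  exact mul_ne_zero hf hg ((Finset.sum_eq_zero_iff.mp h1) i (Finset.mem_univ i))

/-- Lying over is transitive. -/
theorem over_trans {K M H : Type u} [Group K] [Group M] [Group H] [Fintype M] [Fintype H]
    (i : M →* K) (j : H →* M) {χ : K → ℂ} (hχ : IsCharacter K χ) {ψ : M → ℂ}
    (hψ : IsIrrCharacter M ψ) {θ : H → ℂ} (hθ : IsCharacter H θ)
    (h1 : classInner (fun m => χ (i m)) ψ ≠ 0) (h2 : classInner (fun z => ψ (j z)) θ ≠ 0) :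
    classInner (fun z => χ (i (j z))) θ ≠ 0 := by
  have hχi : IsCharacter M (fun m => χ (i m)) := isCharacter_comp hχ i
  choose f hf using fun η : IrrCharacter M => classInner_natCast hχi (isCharacter_of_isIrr η.2)
  have hg0 : ∀ η : IrrCharacter M, ∃ n : ℕ, classInner (fun z => (η : M → ℂ) (j z)) θ = n :=
    fun η => classInner_natCast (isCharacter_comp (isCharacter_of_isIrr η.2) j) hθ
  choose g hg using hg0
  rw [classInner_comp_eq_sum (isClassFunction_of_isCharacter hχi) j θ]
  simp only [hf, hg]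
  refine sum_nat_ne_zero f g ⟨ψ, hψ⟩ ?_ ?_
  · intro h0; exact h1 (by rw [hf ⟨ψ, hψ⟩, h0, Nat.cast_zero])
  · intro h0; exact h2 (by rw [hg ⟨ψ, hψ⟩, h0, Nat.cast_zero])

/-- Characters of a group with abelian quotient lying over the same character differ by a linear one. -/
theorem exists_linear_mul {K : Type u} [Group K] [Fintype K] (N : Subgroup K) [N.Normal] [Fintype N]
    (hab : ∀ x y : K ⧸ N, x * y = y * x) {χ ψ : K → ℂ} (hχ : IsIrrCharacter K χ)
    (hψ : IsIrrCharacter K ψ) {θ : N → ℂ} (hθ : IsIrrCharacter N θ)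
    (h1 : classInner (fun n : N => χ n) θ ≠ 0) (h2 : classInner (fun n : N => ψ n) θ ≠ 0) :
    ∃ l : (K ⧸ N) →* ℂˣ, ∀ k : K, ψ k = (l (k : K ⧸ N) : ℂ) * χ k := by
  letI : CommGroup (K ⧸ N) := { (inferInstance : Group (K ⧸ N)) with mul_comm := hab }
  have := finite_linearHom (K ⧸ N)
  have := Fintype.ofFinite ((K ⧸ N) →* ℂˣ)
  by_contra! hno
  have hind : indFun N (fun n : N => χ n) =
      ∑ l : (K ⧸ N) →* ℂˣ, fun k : K => (l (k : K ⧸ N) : ℂ) * χ k := by
    funext k
    rw [Finset.sum_apply, ← Finset.sum_mul, sum_linearHom]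
    by_cases hk : k ∈ N
    · rw [if_pos ((QuotientGroup.eq_one_iff k).mpr hk)]
      have := indFun_apply_of_mem N (fun n : N => χ n) ⟨k, hk⟩
      rw [show indFun N (fun n : N => χ n) k = _ from this]
      have hc : ∀ x : K, conjChar N x (fun n : N => χ n) ⟨k, hk⟩ = χ k := fun x =>
        congrFun (conjChar_restrict N (isClassFunction_of_isIrr hχ) x) ⟨k, hk⟩
      simp only [hc, Finset.sum_const, Finset.card_univ, nsmul_eq_mul, ← Nat.card_eq_fintype_card]
      rw [← N.card_mul_index, ← Subgroup.index_eq_card, Nat.cast_mul]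
      field_simp [card_ne_zero_complex N]
    · rw [if_neg (fun h => hk ((QuotientGroup.eq_one_iff k).mp h)), zero_mul,
        indFun_apply_of_not_mem N _ hk]
  have h0 : classInner (indFun N (fun n : N => χ n)) ψ = 0 := by
    rw [hind, classInner_sum_left]
    refine Finset.sum_eq_zero fun l _ => classInner_irr_ne
      (isIrrCharacter_linear_mul hχ (l.comp (QuotientGroup.mk' N))) hψ fun e => ?_
    obtain ⟨k, hk⟩ := hno l
    exact hk (congrFun e k).symm
  rw [classInner_indFun N _ (isClassFunction_of_isIrr hψ),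
    classInner_eq_sum (isClassFunction_of_isCharacter
      (isCharacter_restrict (isCharacter_of_isIrr hψ) N))] at h0
  have hχN := isCharacter_restrict (isCharacter_of_isIrr hχ) N
  have hψN := isCharacter_restrict (isCharacter_of_isIrr hψ) N
  choose f hf using fun η : IrrCharacter N => classInner_natCast hχN (isCharacter_of_isIrr η.2)
  choose g hg using fun η : IrrCharacter N => classInner_natCast hψN (isCharacter_of_isIrr η.2)
  simp only [hf, hg, map_natCast] at h0
  refine sum_nat_ne_zero f g ⟨θ, hθ⟩ ?_ ?_ h0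
  · intro h; exact h1 (by rw [hf ⟨θ, hθ⟩, h, Nat.cast_zero])
  · intro h
    exact h2 (by rw [hg ⟨θ, hθ⟩, h, Nat.cast_zero])

variable {A : Type u} [Group A] [Finite A]

/-- The automorphisms induced on a quotient. -/
def quotAut {K : Type u} [Group K] (N : Subgroup K) [N.Normal] (a : A →* MulAut K)
    (h : ∀ x, ∀ k ∈ N, a x k ∈ N) : A →* MulAut (K ⧸ N) where
  toFun x := QuotientGroup.congr N N (a x) (le_antisymm (by rintro _ ⟨k, hk, rfl⟩; exact h x k hk)
    fun k hk => ⟨a x⁻¹ k, h _ k hk, by
      show a x (a x⁻¹ k) = k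
      rw [← MulAut.mul_apply, ← map_mul, mul_inv_cancel, map_one, MulAut.one_apply]⟩)
  map_one' := MulEquiv.ext fun z => QuotientGroup.induction_on z fun k => by
    show ((a 1 k : K) : K ⧸ N) = k
    rw [map_one, MulAut.one_apply]
  map_mul' x y := MulEquiv.ext fun z => QuotientGroup.induction_on z fun k => by
    show ((a (x * y) k : K) : K ⧸ N) = (a x (a y k) : K)
    rw [map_mul, MulAut.mul_apply]

@[simp] theorem quotAut_mk {K : Type u} [Group K] (N : Subgroup K) [N.Normal] (a : A →* MulAut K)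
    (h : ∀ x, ∀ k ∈ N, a x k ∈ N) (x : A) (k : K) :
    quotAut N a h x (k : K ⧸ N) = ((a x k : K) : K ⧸ N) := rfl

variable {K : Type u} [Group K] [Fintype K] {a : A →* MulAut K} {N : Subgroup K} [N.Normal]
  [Fintype N] (hN : ∀ x, ∀ k ∈ N, a x k ∈ N)

include hN

theorem classInner_irrMap (x : A) (χ : IrrCharacter K) (θ : IrrCharacter N) :
    classInner (fun n : N => ((irrMap a x χ : IrrCharacter K) : K → ℂ) n)
        ((irrMap (restrAut a N hN) x θ : IrrCharacter N) : N → ℂ) =
      classInner (fun n : N => (χ : K → ℂ) n) (θ : N → ℂ) :=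
  classInner_equiv (restrAut a N hN x⁻¹) (fun n : N => (χ : K → ℂ) n) (θ : N → ℂ)

theorem irrMap_res_of_inv {θ : IrrCharacter N} (hθ : Inv (restrAut a N hN) (θ : N → ℂ)) (x : A) :
    irrMap (restrAut a N hN) x θ = θ :=
  (irrMap_fixed_iff _ θ).mpr hθ x

/-- An invariant character has an invariant constituent below. -/
theorem exists_inv_below {χ : IrrCharacter K} (hχ : Inv a (χ : K → ℂ))
    (hcop : N.index.Coprime (Nat.card A))
    (hsolv : Group.IsSolvable (K ⧸ N) ∨ Group.IsSolvable A) :
    ∃ θ : IrrCharacter N, classInner (fun n : N => (χ : K → ℂ) n) (θ : N → ℂ) ≠ 0 ∧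
      Inv (restrAut a N hN) (θ : N → ℂ) := by
  let X := {θ : IrrCharacter N // classInner (fun n : N => (χ : K → ℂ) n) (θ : N → ℂ) ≠ 0}
  haveI : Nonempty X := by
    obtain ⟨θ, hθ⟩ := exists_constituent (G := N) (isCharacter_restrict (isCharacter_of_isIrr χ.2) N)
      (fun h => irr_degree_ne_zero χ.2 (by simpa using congrFun h 1))
    exact ⟨⟨θ, hθ⟩⟩
  let cj : K → X → X := fun k θ =>
    ⟨⟨conjChar N k (θ.1 : N → ℂ), isIrrCharacter_conjChar N k θ.1.2⟩, by
      show classInner (fun n : N => (χ : K → ℂ) n) (conjChar N k (θ.1 : N → ℂ)) ≠ 0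
      have h := classInner_conjChar N k (fun n : N => (χ : K → ℂ) n) (θ.1 : N → ℂ)
      rw [conjChar_restrict N (isClassFunction_of_isIrr χ.2) k] at h
      rw [h]; exact θ.2⟩
  letI : MulAction K X :=
    { smul := fun k θ => cj k⁻¹ θ
      one_smul := fun θ => Subtype.ext (Subtype.ext (by
        show conjChar N (1 : K)⁻¹ (θ.1 : N → ℂ) = θ.1
        rw [inv_one, conjChar_one]))
      mul_smul := fun k l θ => Subtype.ext (Subtype.ext (by
        funext n
        show (θ.1 : N → ℂ) ⟨_, _⟩ = (θ.1 : N → ℂ) ⟨_, _⟩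
        exact congrArg _ (Subtype.ext (by simp [mul_assoc])))) }
  have htriv : ∀ (k : K), k ∈ N → ∀ θ : X, k • θ = θ := fun k hk θ => Subtype.ext (Subtype.ext
    (conjChar_of_mem N (isClassFunction_of_isIrr θ.1.2) (N.inv_mem hk)))
  letI : MulAction (K ⧸ N) X :=
    { smul := fun z θ => Quotient.liftOn' z (fun k => k • θ) fun k l h => by
        rw [QuotientGroup.leftRel_apply] at h
        show k • θ = l • θ
        rw [show l = k * (k⁻¹ * l) by group, mul_smul, htriv _ h θ]
      one_smul := fun θ => one_smul K θ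
      mul_smul := fun z w θ => QuotientGroup.induction_on z fun k =>
        QuotientGroup.induction_on w fun l => mul_smul k l θ }
  letI : MulAction A X :=
    { smul := fun x θ => ⟨irrMap (restrAut a N hN) x θ.1, by
        have h := classInner_irrMap hN x χ θ.1
        rw [show irrMap a x χ = χ from (irrMap_fixed_iff a χ).mpr hχ x] at h
        rw [h]; exact θ.2⟩
      one_smul := fun θ => Subtype.ext ((irrAction (restrAut a N hN)).one_smul θ.1)
      mul_smul := fun x y θ => Subtype.ext
        ((irrAction (restrAut a N hN)).mul_smul x y θ.1) }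
  obtain ⟨θ, hθ⟩ := exists_fixed_point (X := X) (quotAut N a hN) (fun x z θ =>
      QuotientGroup.induction_on z fun k => Subtype.ext (Subtype.ext (by
        funext n
        show (θ.1 : N → ℂ) ⟨_, _⟩ = (θ.1 : N → ℂ) ⟨_, _⟩
        refine congrArg _ (Subtype.ext ?_)
        show k⁻¹ * a x⁻¹ (n : K) * k⁻¹⁻¹ = a x⁻¹ ((a x k)⁻¹ * (n : K) * (a x k)⁻¹⁻¹)
        rw [inv_inv, inv_inv, map_mul (a x⁻¹), map_mul (a x⁻¹), map_inv (a x⁻¹) (a x k),
          ← MulAut.mul_apply, ← map_mul a x⁻¹ x, inv_mul_cancel, map_one,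
          MulAut.one_apply])))
    (fun θ ψ => by
      obtain ⟨k, hk⟩ := conjugate_of_constituents N χ.2 θ.1.2 ψ.1.2 θ.2 ψ.2
      refine ⟨((k⁻¹ : K) : K ⧸ N), Subtype.ext (Subtype.ext ?_)⟩
      show conjChar N k⁻¹⁻¹ (θ.1 : N → ℂ) = ψ.1
      rw [inv_inv]; exact hk)
    (by rwa [← Subgroup.index_eq_card]) hsolv
  exact ⟨θ.1, θ.2, (irrMap_fixed_iff _ θ.1).mp fun x => congrArg Subtype.val (hθ x)⟩

/-- An invariant character below an abelian coprime layer has an invariant constituent above. -/
theorem exists_inv_above_abelian {θ : IrrCharacter N} (hθ : Inv (restrAut a N hN) (θ : N → ℂ))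
    (hab : ∀ x y : K ⧸ N, x * y = y * x) (hcop : N.index.Coprime (Nat.card A)) :
    ∃ χ : IrrCharacter K, classInner (fun n : N => (χ : K → ℂ) n) (θ : N → ℂ) ≠ 0 ∧
      Inv a (χ : K → ℂ) := by
  letI : CommGroup (K ⧸ N) := { (inferInstance : Group (K ⧸ N)) with mul_comm := hab }
  let L := (K ⧸ N) →* ℂˣ
  haveI : Finite L := finite_linearHom (K ⧸ N)
  let X := {χ : IrrCharacter K // classInner (fun n : N => (χ : K → ℂ) n) (θ : N → ℂ) ≠ 0}
  haveI : Nonempty X := by
    obtain ⟨χ, hχ⟩ := exists_irr_over N θ.2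
    exact ⟨⟨χ, hχ⟩⟩
  letI : MulAction L X :=
    { smul := fun l χ => ⟨⟨fun k => (l (k : K ⧸ N) : ℂ) * (χ.1 : K → ℂ) k,
        isIrrCharacter_linear_mul χ.1.2 (l.comp (QuotientGroup.mk' N))⟩, by
          have e : (fun n : N => (l ((n : K) : K ⧸ N) : ℂ) * (χ.1 : K → ℂ) n) =
              fun n : N => (χ.1 : K → ℂ) n := funext fun n => by
            rw [(QuotientGroup.eq_one_iff (n : K)).mpr n.2, map_one, Units.val_one, one_mul]
          rw [e]; exact χ.2⟩
      one_smul := fun χ => Subtype.ext (Subtype.ext (funext fun k => by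
        show ((1 : L) (k : K ⧸ N) : ℂ) * (χ.1 : K → ℂ) k = _
        rw [MonoidHom.one_apply, Units.val_one, one_mul]))
      mul_smul := fun l l' χ => Subtype.ext (Subtype.ext (funext fun k => by
        show ((l * l') (k : K ⧸ N) : ℂ) * (χ.1 : K → ℂ) k = _ * (_ * _)
        rw [MonoidHom.mul_apply, Units.val_mul, mul_assoc])) }
  letI : MulAction A X :=
    { smul := fun x χ => ⟨irrMap a x χ.1, by
        have h := classInner_irrMap hN x χ.1 θ
        rw [irrMap_res_of_inv hN hθ x] at h
        rw [h]; exact χ.2⟩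
      one_smul := fun χ => Subtype.ext ((irrAction a).one_smul χ.1)
      mul_smul := fun x y χ => Subtype.ext ((irrAction a).mul_smul x y χ.1) }
  let φ : A →* MulAut L :=
    { toFun := fun x =>
        { toFun := fun l => l.comp (quotAut N a hN x⁻¹).toMonoidHom
          invFun := fun l => l.comp (quotAut N a hN x).toMonoidHom
          left_inv := fun l => MonoidHom.ext fun z => by
            show l (quotAut N a hN x⁻¹ (quotAut N a hN x z)) = l z
            rw [← MulAut.mul_apply, ← map_mul, inv_mul_cancel, map_one, MulAut.one_apply]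
          right_inv := fun l => MonoidHom.ext fun z => by
            show l (quotAut N a hN x (quotAut N a hN x⁻¹ z)) = l z
            rw [← MulAut.mul_apply, ← map_mul, mul_inv_cancel, map_one, MulAut.one_apply]
          map_mul' := fun l l' => rfl }
      map_one' := MulEquiv.ext fun l => MonoidHom.ext fun z => by
        show l (quotAut N a hN (1 : A)⁻¹ z) = l z
        rw [inv_one, map_one, MulAut.one_apply]
      map_mul' := fun x y => MulEquiv.ext fun l => MonoidHom.ext fun z => by
        show l (quotAut N a hN (x * y)⁻¹ z) = l (quotAut N a hN y⁻¹ (quotAut N a hN x⁻¹ z))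
        rw [mul_inv_rev, map_mul, MulAut.mul_apply] }
  have hL : Nat.card L = N.index := by
    rw [CommGroup.card_monoidHom_of_hasEnoughRootsOfUnity, Subgroup.index_eq_card]
  obtain ⟨χ, hχ⟩ := exists_fixed_point (X := X) φ (fun x l χ => rfl) (fun χ ψ => by
      obtain ⟨l, hl⟩ := exists_linear_mul N hab χ.1.2 ψ.1.2 θ.2 χ.2 ψ.2
      exact ⟨l, Subtype.ext (Subtype.ext (funext fun k => (hl k).symm))⟩)
    (hL ▸ hcop) (Or.inl (Group.isSolvable_of_comm fun l l' => mul_comm l l'))
  exact ⟨χ.1, χ.2, (irrMap_fixed_iff _ χ.1).mp fun x => congrArg Subtype.val (hχ x)⟩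

/-- A `p`-group of operators fixes a constituent above. -/
theorem exists_inv_above_pGroup {θ : IrrCharacter N} (hθ : Inv (restrAut a N hN) (θ : N → ℂ))
    {p : ℕ} [Fact p.Prime] (hA : IsPGroup p A) (hp : ¬ p ∣ N.index) :
    ∃ χ : IrrCharacter K, classInner (fun n : N => (χ : K → ℂ) n) (θ : N → ℂ) ≠ 0 ∧
      Inv a (χ : K → ℂ) := by
  by_contra! hno
  choose m hm using fun χ : IrrCharacter K => classInner_natCast
    (isCharacter_restrict (isCharacter_of_isIrr χ.2) N) (isCharacter_of_isIrr θ.2)
  let f : IrrCharacter K → ℕ := fun χ => m χ * (charDegree (χ : K → ℂ) / charDegree (θ : N → ℂ))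
  have hmul : ∀ χ : IrrCharacter K,
      f χ * charDegree (θ : N → ℂ) = m χ * charDegree (χ : K → ℂ) := by
    intro χ
    by_cases h0 : m χ = 0
    · simp [f, h0]
    have h := clifford_degree N χ.2 θ.2 (by rw [hm]; exact Nat.cast_ne_zero.mpr h0)
    rw [hm, apply_one_eq_charDegree (isCharacter_of_isIrr χ.2),
      apply_one_eq_charDegree (isCharacter_of_isIrr θ.2)] at h
    have h' : charDegree (χ : K → ℂ) = m χ * (inertia N (θ : N → ℂ)).index * charDegree (θ : N → ℂ) := by
      exact_mod_cast h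
    simp only [f]
    rw [mul_assoc, Nat.div_mul_cancel (Dvd.intro_left _ h'.symm)]
  have hsum : ∑ χ : IrrCharacter K, f χ = N.index := by
    apply Nat.eq_of_mul_eq_mul_right (charDegree_pos θ.2)
    rw [Finset.sum_mul, Finset.sum_congr rfl fun χ _ => hmul χ]
    apply Nat.cast_injective (R := ℂ)
    push_cast
    have h := congrFun (eq_sum_classInner_smul (isClassFunction_indFun N (θ : N → ℂ))) (1 : K)
    rw [indFun_one, apply_one_eq_charDegree (isCharacter_of_isIrr θ.2), Finset.sum_apply] at h
    rw [h]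
    refine Finset.sum_congr rfl fun χ _ => ?_
    rw [Pi.smul_apply, smul_eq_mul, classInner_indFun N _ (isClassFunction_of_isIrr χ.2),
      classInner_conj_symm, hm, Complex.conj_natCast,
      apply_one_eq_charDegree (isCharacter_of_isIrr χ.2)]
  have hinv : ∀ x χ, (f (irrMap a x χ) : ZMod p) = (f χ : ZMod p) := by
    intro x χ
    have h1 : m (irrMap a x χ) = m χ := by
      apply Nat.cast_injective (R := ℂ)
      rw [← hm, ← hm, ← classInner_irrMap hN x χ θ, irrMap_res_of_inv hN hθ x]
    have h2 : charDegree ((irrMap a x χ : IrrCharacter K) : K → ℂ) = charDegree (χ : K → ℂ) := by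
      show charDegree (fun k => (χ : K → ℂ) (a x⁻¹ k)) = _
      rw [charDegree, charDegree, map_one]
    simp only [f, h1, h2]
  have h := sum_irr_eq_sum_inv a hA (fun χ => (f χ : ZMod p)) hinv
  rw [← Nat.cast_sum, hsum, Finset.sum_eq_zero fun χ hχ => ?_] at h
  · exact hp ((ZMod.natCast_eq_zero_iff _ _).mp h)
  · have hz : m χ = 0 := by
      by_contra h0
      exact hno χ (by rw [hm]; exact Nat.cast_ne_zero.mpr h0) (Finset.mem_filter.mp hχ).2
    simp [f, hz]

omit hN

/-- Transport of invariance along an intermediate layer. -/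
theorem exists_inv_above_solvable : ∀ (n : ℕ) {K : Type u} [Group K] [Fintype K] (a : A →* MulAut K)
    {N : Subgroup K} [N.Normal] [Fintype N] (hN : ∀ x, ∀ k ∈ N, a x k ∈ N) {θ : IrrCharacter N},
    Nat.card K = n → Inv (restrAut a N hN) (θ : N → ℂ) → Group.IsSolvable (K ⧸ N) →
    N.index.Coprime (Nat.card A) →
    ∃ χ : IrrCharacter K, classInner (fun n : N => (χ : K → ℂ) n) (θ : N → ℂ) ≠ 0 ∧
      Inv a (χ : K → ℂ) := by
  intro n
  induction n using Nat.strong_induction_on with
  | _ n ih =>
  intro K _ _ a N _ _ hN θ hn hθ hsolv hcop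
  subst hn
  set M := N ⊔ commutator K with hM
  haveI : M.Normal := inferInstance
  have := Fintype.ofFinite M
  have hMA : ∀ x, ∀ k ∈ M, a x k ∈ M := by
    intro x k hk
    have h : M.map (a x).toMonoidHom ≤ M := by
      rw [hM, Subgroup.map_sup]
      refine sup_le_sup ?_ ?_
      · rintro _ ⟨k, hk, rfl⟩; exact hN x k hk
      · rw [commutator_def, Subgroup.map_commutator]
        exact Subgroup.commutator_mono le_top le_top
    exact h ⟨k, hk, rfl⟩
  have hab : ∀ x y : K ⧸ M, x * y = y * x := fun x y =>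
    QuotientGroup.induction_on x fun g => QuotientGroup.induction_on y fun h => by
      rw [← QuotientGroup.mk_mul, ← QuotientGroup.mk_mul, QuotientGroup.eq]
      refine Subgroup.mem_sup_right ?_
      have e : (g * h)⁻¹ * (h * g) = ⁅h⁻¹, g⁻¹⁆ := by rw [commutatorElement_def]; group
      rw [e, commutator_def]
      exact Subgroup.commutator_mem_commutator (Subgroup.mem_top _) (Subgroup.mem_top _)
  by_cases hNtop : N = ⊤
  · obtain ⟨χ, hχ⟩ := exists_irr_over N θ.2
    refine ⟨χ, hχ, fun x k => ?_⟩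
    have hres : (fun n : N => (χ : K → ℂ) n) = (θ : N → ℂ) := by
      subst hNtop
      have hirr : IsIrrCharacter (⊤ : Subgroup K) fun n => (χ : K → ℂ) n :=
        isIrrCharacter_comp χ.2 (⊤ : Subgroup K).subtype fun k => ⟨⟨k, trivial⟩, rfl⟩
      by_contra hne
      exact hχ (classInner_irr_ne hirr θ.2 hne)
    have hk : k ∈ N := hNtop ▸ Subgroup.mem_top k
    have h1 := congrFun hres ⟨a x k, hN x k hk⟩
    have h2 := congrFun hres ⟨k, hk⟩
    simp only at h1 h2
    rw [h1, h2]
    exact hθ x ⟨k, hk⟩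
  have hMne : M ≠ ⊤ := by
    intro hMtop
    haveI : Nontrivial (K ⧸ N) := QuotientGroup.nontrivial_iff.mpr hNtop
    haveI := hsolv
    have hlt : commutator (K ⧸ N) < ⊤ := IsSolvable.commutator_lt_top_of_nontrivial (K ⧸ N)
    refine hlt.ne ?_
    rw [commutator_def, ← Subgroup.map_top_of_surjective (QuotientGroup.mk' N)
      (QuotientGroup.mk'_surjective N), ← Subgroup.map_commutator, ← commutator_def]
    have := congrArg (Subgroup.map (QuotientGroup.mk' N)) hMtop
    rw [hM, Subgroup.map_sup, QuotientGroup.map_mk'_self, bot_sup_eq] at this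
    exact this
  have hNM : N ≤ M := le_sup_left
  have hlt : Nat.card M < Nat.card K :=
    lt_of_le_of_ne (Subgroup.card_le_card_group M) fun h => hMne (Subgroup.eq_top_of_card_eq M h)
  let e := Subgroup.subgroupOfEquivOfLe hNM
  have := Fintype.ofFinite (N.subgroupOf M)
  let θ' : IrrCharacter (N.subgroupOf M) :=
    ⟨fun z => (θ : N → ℂ) (e z), isIrrCharacter_comp θ.2 e.toMonoidHom e.surjective⟩
  have hsolvM : Group.IsSolvable (M ⧸ N.subgroupOf M) := by
    haveI := hsolv
    refine Group.isSolvable_of_isSolvable_injective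
      (f := QuotientGroup.map (N.subgroupOf M) N M.subtype le_rfl) ?_
    intro z w
    induction z using QuotientGroup.induction_on with
    | _ z =>
      induction w using QuotientGroup.induction_on with
      | _ w =>
        intro h
        change ((z : K) : K ⧸ N) = ((w : K) : K ⧸ N) at h
        rw [QuotientGroup.eq] at h ⊢
        exact h
  have hidx : (N.subgroupOf M).index * M.index = N.index := Subgroup.relIndex_mul_index hNM
  obtain ⟨ψ, hψ, hψinv⟩ := ih _ hlt (K := M) (restrAut a M hMA) (N := N.subgroupOf M)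
    (fun x k hk => hN x _ hk) (θ := θ') rfl (fun x z => hθ x (e z)) hsolvM
    (hcop.coprime_dvd_left (Dvd.intro _ hidx))
  obtain ⟨χ, hχ, hχinv⟩ := exists_inv_above_abelian (a := a) (N := M) hMA (θ := ψ) hψinv hab
    (hcop.coprime_dvd_left (Dvd.intro_left _ hidx))
  refine ⟨χ, ?_, hχinv⟩
  have h := over_trans M.subtype (N.subgroupOf M).subtype (isCharacter_of_isIrr χ.2) ψ.2
    (isCharacter_of_isIrr θ'.2) hχ hψ
  rw [← classInner_equiv e (fun n : N => (χ : K → ℂ) n) (θ : N → ℂ)]
  exact h

end Cfsg.Agent.Lib.Glauberman
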