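import Cfsg.Agent.Lib.Coprime.Conjugacy
import Mathlib.GroupTheory.SchurZassenhaus
import Mathlib.GroupTheory.SemidirectProduct

/-!
# Glauberman's lemma
-/

set_option autoImplicit false
set_option linter.style.haveILetI false

namespace Cfsg.Agent.Lib.Glauberman

open scoped Pointwise

universe u

/-- A coprime group of operators on a transitive set has a fixed point. -/
theorem exists_fixed_point {K A : Type u} [Group K] [Finite K] [Group A] [Finite A] {X : Type u}
    [MulAction K X] [MulAction A X] [Nonempty X] (φ : A →* MulAut K)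
    (hcompat : ∀ (a : A) (k : K) (x : X), a • k • x = φ a k • a • x)
    (htrans : ∀ x y : X, ∃ k : K, k • x = y) (hcop : (Nat.card K).Coprime (Nat.card A))
    (hsolv : Group.IsSolvable K ∨ Group.IsSolvable A) :
    ∃ x : X, ∀ a : A, a • x = x := by
  obtain ⟨x₀⟩ := (inferInstance : Nonempty X)
  have : Finite (K ⋊[φ] A) := Finite.of_equiv _ SemidirectProduct.equivProd.symm
  letI : MulAction (K ⋊[φ] A) X :=
    { smul := fun g x => g.left • g.right • x
      one_smul := fun x => by
        show (1 : K ⋊[φ] A).left • (1 : K ⋊[φ] A).right • x = x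
        rw [SemidirectProduct.one_left, SemidirectProduct.one_right, one_smul, one_smul]
      mul_smul := fun g h x => by
        show (g * h).left • (g * h).right • x = g.left • g.right • h.left • h.right • x
        rw [SemidirectProduct.mul_left, SemidirectProduct.mul_right, mul_smul, mul_smul, hcompat] }
  let N : Subgroup (K ⋊[φ] A) := (SemidirectProduct.rightHom : K ⋊[φ] A →* A).ker
  have hNK : Nat.card N = Nat.card K := by
    show Nat.card (SemidirectProduct.rightHom : K ⋊[φ] A →* A).ker = _
    rw [← SemidirectProduct.range_inl_eq_ker_rightHom]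
    exact Nat.card_congr (MonoidHom.ofInjective SemidirectProduct.inl_injective).toEquiv.symm
  have hidx : N.index = Nat.card A := by
    show (SemidirectProduct.rightHom : K ⋊[φ] A →* A).ker.index = _
    rw [Subgroup.index_ker, MonoidHom.range_eq_top.2 SemidirectProduct.rightHom_surjective,
      Subgroup.card_top]
  set R := MulAction.stabilizer (K ⋊[φ] A) x₀ with hR
  let π : R →* A := (SemidirectProduct.rightHom : K ⋊[φ] A →* A).comp R.subtype
  have hπ : Function.Surjective π := fun a => by
    obtain ⟨k, hk⟩ := htrans (a • x₀) x₀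
    exact ⟨⟨⟨k, a⟩, MulAction.mem_stabilizer_iff.mpr hk⟩, rfl⟩
  have hker : π.ker.index = Nat.card A := by
    rw [Subgroup.index_ker, MonoidHom.range_eq_top.2 hπ, Subgroup.card_top]
  have hkerdvd : Nat.card π.ker ∣ Nat.card K := by
    rw [← hNK, ← (Subgroup.card_map_of_injective R.subtype_injective :
      Nat.card (π.ker.map R.subtype) = Nat.card π.ker)]
    refine Subgroup.card_dvd_of_le ?_
    rintro _ ⟨r, hr, rfl⟩
    exact hr
  obtain ⟨B, hB⟩ := Subgroup.exists_right_complement'_of_coprime (N := π.ker)
    (hker ▸ hcop.coprime_dvd_left hkerdvd)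
  have hBcard : Nat.card (B.map R.subtype) = N.index := by
    rw [hidx, Subgroup.card_map_of_injective R.subtype_injective, ← hker, hB.symm.index_eq_card]
  have hAcard : Nat.card (SemidirectProduct.inr : A →* K ⋊[φ] A).range = N.index := by
    rw [hidx]
    exact Nat.card_congr (MonoidHom.ofInjective SemidirectProduct.inr_injective).toEquiv.symm
  have hs : Group.IsSolvable N ∨ Group.IsSolvable ((K ⋊[φ] A) ⧸ N) := by
    rcases hsolv with h | h
    · left
      haveI := h
      let e : K →* N := (SemidirectProduct.inl : K →* K ⋊[φ] A).codRestrict N fun k => by simp [N]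
      refine Group.isSolvable_of_surjective (f := e) fun z => ?_
      obtain ⟨z, hz⟩ := z
      have hz' : z ∈ (SemidirectProduct.inl : K →* K ⋊[φ] A).range := by
        rw [SemidirectProduct.range_inl_eq_ker_rightHom]; exact hz
      obtain ⟨k, rfl⟩ := hz'
      exact ⟨k, rfl⟩
    · right
      haveI := h
      refine Group.isSolvable_of_surjective
        (f := (QuotientGroup.mk' N).comp (SemidirectProduct.inr : A →* K ⋊[φ] A)) fun z => ?_
      obtain ⟨w, rfl⟩ := QuotientGroup.mk'_surjective N z
      refine ⟨w.right, ?_⟩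
      show ((SemidirectProduct.inr w.right : K ⋊[φ] A) : (K ⋊[φ] A) ⧸ N) = (w : (K ⋊[φ] A) ⧸ N)
      rw [QuotientGroup.eq]
      simp [N]
  obtain ⟨g, hg⟩ := Coprime.exists_conj_eq_of_card_eq N (by rw [hNK, hidx]; exact hcop) hs hBcard hAcard
  refine ⟨g • x₀, fun a => ?_⟩
  have ha : (SemidirectProduct.inr a : K ⋊[φ] A) ∈ MulAut.conj g • B.map R.subtype := hg ▸ ⟨a, rfl⟩
  obtain ⟨b, hb, hba⟩ := ha
  have hbR : b • x₀ = x₀ := by
    obtain ⟨r, -, rfl⟩ := hb
    exact r.2
  have h1 : (SemidirectProduct.inr a : K ⋊[φ] A) • g • x₀ = a • g • x₀ := by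
    show (1 : K) • a • g • x₀ = a • g • x₀
    rw [one_smul]
  rw [← h1, ← hba]
  show (g * b * g⁻¹) • g • x₀ = g • x₀
  rw [← mul_smul, mul_assoc, inv_mul_cancel, mul_one, mul_smul, hbR]

end Cfsg.Agent.Lib.Glauberman
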